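/-
Sequences of elements in which consecutive ones generate groups of prime power order growing by one step.
-/
import Mathlib.GroupTheory.PGroup
import Mathlib.GroupTheory.Sylow
import Mathlib.GroupTheory.Nilpotent
import Mathlib.GroupTheory.NoncommCoprod
import Mathlib.GroupTheory.IndexNormal
import Mathlib.Tactic.Group

set_option autoImplicit false

namespace CfsgLib.PGroup.IndexChain

open Subgroup

variable {G : Type*} [Group G]

/-- The subgroup generated by the `x l` with `i ≤ l < j`. -/
def seg (x : ℤ → G) (i j : ℤ) : Subgroup G := closure (x '' Set.Ico i j)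

theorem mem_seg {x : ℤ → G} {i j l : ℤ} (h1 : i ≤ l) (h2 : l < j) : x l ∈ seg x i j :=
  subset_closure ⟨l, ⟨h1, h2⟩, rfl⟩

theorem seg_mono {x : ℤ → G} {i j i' j' : ℤ} (h1 : i' ≤ i) (h2 : j ≤ j') : seg x i j ≤ seg x i' j' :=
  closure_mono (Set.image_mono (Set.Ico_subset_Ico h1 h2))

theorem seg_le_iff {x : ℤ → G} {i j : ℤ} {H : Subgroup G} :
    seg x i j ≤ H ↔ ∀ l, i ≤ l → l < j → x l ∈ H := by
  rw [seg, closure_le]
  exact ⟨fun h l h1 h2 => h ⟨l, ⟨h1, h2⟩, rfl⟩, fun h y ⟨l, hl, e⟩ => e ▸ h l hl.1 hl.2⟩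

theorem seg_split (x : ℤ → G) {i l j : ℤ} (h1 : i ≤ l) (h2 : l ≤ j) : seg x i j = seg x i l ⊔ seg x l j := by
  rw [seg, seg, seg, ← Subgroup.closure_union, ← Set.image_union, Set.Ico_union_Ico_eq_Ico h1 h2]

/-- Intervals of length `k ≤ t` have order `p ^ k`, and commuting is shift invariant. -/
structure IsChain (p t : ℕ) (x : ℤ → G) : Prop where
  card : ∀ (i : ℤ) (k : ℕ), k ≤ t → Nat.card (seg x i (i + k)) = p ^ k
  shift : ∀ i j d : ℤ, Commute (x i) (x j) → Commute (x (i + d)) (x (j + d))

variable {p t : ℕ} [hp : Fact p.Prime] {x : ℤ → G}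

theorem IsChain.reflect (h : IsChain p t x) (a : ℤ) : IsChain p t fun l => x (a - l) := by
  refine ⟨fun i k hk => ?_, fun i j d hij => ?_⟩
  · have e : seg (fun l => x (a - l)) i (i + k) = seg x (a - i - k + 1) (a - i - k + 1 + k) := by
      refine le_antisymm (seg_le_iff.2 fun l h1 h2 => mem_seg (by omega) (by omega)) (seg_le_iff.2 fun l h1 h2 => ?_)
      have := mem_seg (x := fun l => x (a - l)) (i := i) (j := i + k) (l := a - l) (by omega) (by omega)
      simpa using this
    rw [e]
    exact h.card _ k hk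
  · have := h.shift (a - i) (a - j) (-d) hij
    rwa [show a - i + -d = a - (i + d) by ring, show a - j + -d = a - (j + d) by ring] at this

theorem seg_reflect (x : ℤ → G) (a i j : ℤ) :
    seg (fun l => x (a - l)) i j = seg x (a - j + 1) (a - i + 1) := by
  refine le_antisymm (seg_le_iff.2 fun l h1 h2 => mem_seg (by omega) (by omega)) (seg_le_iff.2 fun l h1 h2 => ?_)
  have := mem_seg (x := fun l => x (a - l)) (i := i) (j := j) (l := a - l) (by omega) (by omega)
  simpa using this

theorem IsChain.card' (h : IsChain p t x) {i j : ℤ} (h1 : i ≤ j) (h2 : j ≤ i + t) :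
    Nat.card (seg x i j) = p ^ (j - i).toNat := by
  obtain ⟨k, rfl⟩ : ∃ k : ℕ, j = i + k := ⟨(j - i).toNat, by omega⟩
  rw [h.card i k (by omega)]
  congr 1
  omega

theorem IsChain.finite (h : IsChain p t x) {i j : ℤ} (h2 : j ≤ i + t) : Finite (seg x i j) := by
  refine Nat.finite_of_card_ne_zero ?_
  rcases le_or_gt i j with h1 | h1
  · rw [h.card' h1 h2]; exact pow_ne_zero _ hp.out.ne_zero
  · rw [seg, Set.Ico_eq_empty (by omega), Set.image_empty, Subgroup.closure_empty, Subgroup.card_bot]
    norm_num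

/-- Index `p` sub-intervals are maximal and normal. -/
theorem IsChain.conj_mem (h : IsChain p t x) {i j i' j' : ℤ} (hij : i ≤ j) (hi : i' ≤ i) (hj : j ≤ j')
    (hlen : j' - i' = j - i + 1) (ht : j' ≤ i' + t) {g y : G} (hg : g ∈ seg x i' j') (hy : y ∈ seg x i j) :
    g * y * g⁻¹ ∈ seg x i j := by
  haveI := h.finite (i := i') (j := j') ht
  have hp' : IsPGroup p (seg x i' j') := IsPGroup.of_card (h.card' (by omega) ht)
  haveI := hp'.isNilpotent
  have hle : seg x i j ≤ seg x i' j' := seg_mono hi hj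
  have hidx : ((seg x i j).subgroupOf (seg x i' j')).index = p := by
    have h1 := Subgroup.index_mul_card ((seg x i j).subgroupOf (seg x i' j'))
    rw [Nat.card_congr (subgroupOfEquivOfLe hle).toEquiv, h.card' hij (by omega), h.card' (by omega) ht,
      show (j' - i').toNat = (j - i).toNat + 1 by omega, pow_succ', mul_left_inj' (pow_ne_zero _ hp.out.ne_zero)] at h1
    exact h1
  haveI hn : ((seg x i j).subgroupOf (seg x i' j')).Normal := by
    refine Subgroup.normal_of_index_eq_minFac_card ?_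
    rw [hidx, h.card' (by omega) ht, show (j' - i').toNat = (j - i).toNat + 1 by omega,
      hp.out.pow_minFac (Nat.succ_ne_zero _)]
  exact hn.conj_mem (⟨y, hle hy⟩ : seg x i' j') hy ⟨g, hg⟩

/-- Consecutive pieces of a short interval meet trivially. -/
theorem IsChain.disjoint (h : IsChain p t x) {i l j : ℤ} (h1 : i ≤ l) (h2 : l ≤ j) (h3 : j ≤ i + t)
    (hc : ∀ m n, i ≤ m → m < l → l ≤ n → n < j → Commute (x m) (x n)) : seg x i l ⊓ seg x l j = ⊥ := by
  haveI := h.finite (i := i) (j := j) h3
  haveI := h.finite (i := i) (j := l) (by omega)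
  haveI := h.finite (i := l) (j := j) (by omega)
  have hcomm : ∀ (a : seg x i l) (b : seg x l j), Commute ((seg x i l).subtype a) ((seg x l j).subtype b) := by
    intro a b
    show Commute (a : G) (b : G)
    have hA : seg x i l ≤ centralizer {(b : G)} := seg_le_iff.2 fun m hm1 hm2 => by
      have hB : seg x l j ≤ centralizer {x m} := seg_le_iff.2 fun n hn1 hn2 =>
        mem_centralizer_singleton_iff.2 (hc m n hm1 hm2 hn1 hn2).symm.eq
      exact mem_centralizer_singleton_iff.2 (mem_centralizer_singleton_iff.1 (hB b.2)).symm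
    exact mem_centralizer_singleton_iff.1 (hA a.2)
  let f := MonoidHom.noncommCoprod (seg x i l).subtype (seg x l j).subtype hcomm
  have hr : f.range = seg x i j := by
    rw [MonoidHom.noncommCoprod_range, range_subtype, range_subtype, ← seg_split x h1 h2]
  have hcard : Nat.card (seg x i l × seg x l j) = Nat.card f.range := by
    rw [hr, Nat.card_prod, h.card' h1 (by omega), h.card' h2 (by omega), h.card' (by omega) h3, ← pow_add]
    congr 1
    omega
  haveI : Finite f.range := Nat.finite_of_card_ne_zero (hcard ▸ Nat.card_pos.ne')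
  have hinj : Function.Injective f.rangeRestrict :=
    ((Nat.bijective_iff_surjective_and_card _).2 ⟨f.rangeRestrict_surjective, hcard⟩).1
  rw [eq_bot_iff]
  rintro g ⟨hg1, hg2⟩
  have : ((⟨g, hg1⟩, 1) : seg x i l × seg x l j) = (1, ⟨g, hg2⟩) := hinj (Subtype.ext (by
    show g * ((1 : seg x l j) : G) = ((1 : seg x i l) : G) * g
    simp))
  exact Subgroup.mem_bot.2 (congrArg (fun q => ((q.1 : seg x i l) : G)) this)

open scoped commutatorElement in
/-- The commutator of two nearby elements lies strictly between them. -/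
theorem IsChain.commutator_mem (h : IsChain p t x) {i j : ℤ} (h1 : i < j) (h2 : j + 1 ≤ i + t) :
    x i * x j * (x i)⁻¹ * (x j)⁻¹ ∈ seg x (i + 1) j := by
  haveI := h.finite (i := i) (j := j) (by omega)
  have m1 : x i * x j * (x i)⁻¹ * (x j)⁻¹ ∈ seg x i j := by
    rw [show x i * x j * (x i)⁻¹ * (x j)⁻¹ = x i * (x j * (x i)⁻¹ * (x j)⁻¹) by group]
    exact mul_mem (mem_seg le_rfl h1) (h.conj_mem (i' := i) (j' := j + 1) h1.le le_rfl (by omega) (by omega) h2
      (mem_seg h1.le (by omega)) (inv_mem (mem_seg le_rfl h1)))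
  have m2 : x i * x j * (x i)⁻¹ * (x j)⁻¹ ∈ seg x (i + 1) (j + 1) :=
    mul_mem (h.conj_mem (i' := i) (j' := j + 1) (by omega) (by omega) le_rfl (by omega) h2
      (mem_seg le_rfl (by omega)) (mem_seg (by omega) (by omega))) (inv_mem (mem_seg (by omega) (by omega)))
  -- the two maximal intervals meet in the middle one
  have hle : seg x (i + 1) j ≤ seg x i j ⊓ seg x (i + 1) (j + 1) :=
    le_inf (seg_mono (by omega) le_rfl) (seg_mono le_rfl (by omega))
  haveI hfin : Finite ↥(seg x i j ⊓ seg x (i + 1) (j + 1)) :=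
    Finite.of_injective _ (Subgroup.inclusion_injective inf_le_left)
  have heq : seg x (i + 1) j = seg x i j ⊓ seg x (i + 1) (j + 1) := by
    refine Subgroup.eq_of_le_of_card_ge hle ?_
    rw [h.card' (by omega) (by omega)]
    have hd := Subgroup.card_dvd_of_le (inf_le_left : seg x i j ⊓ seg x (i + 1) (j + 1) ≤ seg x i j)
    rw [h.card' h1.le (by omega)] at hd
    obtain ⟨e, he, hce⟩ := (Nat.dvd_prime_pow hp.out).1 hd
    rw [hce]
    refine Nat.pow_le_pow_right hp.out.pos ?_
    by_contra hlt
    have hee : e = (j - i).toNat := by omega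
    have eq1 : seg x i j ⊓ seg x (i + 1) (j + 1) = seg x i j :=
      Subgroup.eq_of_le_of_card_ge inf_le_left (by rw [hce, hee, h.card' h1.le (by omega)])
    have hall : seg x i (j + 1) ≤ seg x (i + 1) (j + 1) := seg_le_iff.2 fun l hl1 hl2 => by
      rcases eq_or_lt_of_le hl1 with rfl | hl
      · exact (eq1.ge (mem_seg le_rfl h1)).2
      · exact mem_seg (by omega) hl2
    haveI := h.finite (i := i + 1) (j := j + 1) (by omega)
    have := Subgroup.card_le_of_le hall
    rw [h.card' (by omega) h2, h.card' (by omega) (by omega), Nat.pow_le_pow_iff_right hp.out.one_lt] at this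
    omega
  rw [heq]
  exact ⟨m1, m2⟩

/-- The commutator at the first failure of commutativity avoids the low positions. -/
theorem IsChain.commutator_high (h : IsChain p t x) {a : ℕ} (ha : 1 ≤ a) (hat : a < t)
    (hcomm : ∀ i j : ℤ, i ≤ j → j < i + a → Commute (x i) (x j)) (hne : ¬ Commute (x 0) (x a)) :
    x 0 * x a * (x 0)⁻¹ * (x a)⁻¹ ∈ seg x (max 1 ((t : ℤ) - a)) a := by
  obtain ⟨c, hc⟩ : ∃ c, c = x 0 * x a * (x 0)⁻¹ * (x a)⁻¹ := ⟨_, rfl⟩
  rw [← hc]
  have hc1 : c ∈ seg x 1 a := by
    rw [hc]; simpa using h.commutator_mem (i := 0) (j := a) (by omega) (by omega)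
  have hcne : c ≠ 1 := fun e => hne (by
    rw [hc, mul_inv_eq_one, mul_inv_eq_iff_eq_mul] at e
    exact e)
  have hsym : ∀ i j : ℤ, i < j + a → j < i + a → Commute (x i) (x j) := fun i j h1 h2 => by
    rcases le_total i j with h' | h'
    · exact hcomm i j h' h2
    · exact (hcomm j i h' h1).symm
  -- if `c` starts at `r` with `r + a < t` then `x r` would commute with `x (r + a)`
  have key : ∀ r : ℕ, 1 ≤ r → (r : ℤ) + a < t → r < a → c ∈ seg x r a → c ∈ seg x ((r : ℤ) + 1) a := by
    intro r hr1 hrt hra hcr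
    by_contra hnot
    have hconj : x (r + a) * c * (x (r + a))⁻¹ = c := by
      obtain ⟨d, hd⟩ : ∃ d, d = (x 0)⁻¹ * (x (r + a) * x 0 * (x (r + a))⁻¹) := ⟨_, rfl⟩
      have hdseg : d ∈ seg x 1 (r + a) := by
        have := h.commutator_mem (i := 0) (j := (r : ℤ) + a) (by omega) (by omega)
        rw [show (0 : ℤ) + 1 = 1 from rfl] at this
        have hnorm : x 0 * d * (x 0)⁻¹ ∈ seg x 1 (r + a) := by
          have e : x 0 * d * (x 0)⁻¹ = (x 0 * x (r + a) * (x 0)⁻¹ * (x (r + a))⁻¹)⁻¹ := by rw [hd]; group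
          rw [e]; exact inv_mem this
        have := h.conj_mem (i := 1) (j := (r : ℤ) + a) (i' := 0) (j' := (r : ℤ) + a) (by omega) (by omega) le_rfl
          (by omega) (by omega) (inv_mem (mem_seg (x := x) (l := 0) le_rfl (by omega))) hnorm
        simpa [mul_assoc] using this
      have hda : Commute d (x a) := by
        have : seg x 1 (r + a) ≤ centralizer {x a} := seg_le_iff.2 fun l h1 h2 =>
          mem_centralizer_singleton_iff.2 (hsym l a (by omega) (by omega)).eq
        exact mem_centralizer_singleton_iff.1 (this hdseg)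
      have hka : Commute (x (r + a)) (x a) := hsym _ _ (by omega) (by omega)
      calc x (r + a) * c * (x (r + a))⁻¹
          = (x (r + a) * x 0 * (x (r + a))⁻¹) * (x (r + a) * x a * (x (r + a))⁻¹) *
            (x (r + a) * x 0 * (x (r + a))⁻¹)⁻¹ * (x (r + a) * x a * (x (r + a))⁻¹)⁻¹ := by rw [hc]; group
        _ = (x 0 * d) * x a * (x 0 * d)⁻¹ * (x a)⁻¹ := by rw [hka.eq, mul_inv_cancel_right, hd, mul_inv_cancel_left]
        _ = x 0 * (d * x a) * d⁻¹ * (x 0)⁻¹ * (x a)⁻¹ := by group
        _ = c := by rw [hda.eq, hc]; group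
    obtain ⟨M, hM⟩ : ∃ M, M = seg x r a ⊓ centralizer {x (r + a)} := ⟨_, rfl⟩
    have hrest : seg x ((r : ℤ) + 1) a ≤ M := hM ▸ le_inf (seg_mono (by omega) le_rfl)
      (seg_le_iff.2 fun l h1 h2 => mem_centralizer_singleton_iff.2 (hsym l _ (by omega) (by omega)).eq)
    have hcM : c ∈ M := hM ▸ ⟨hcr, mem_centralizer_singleton_iff.2 (mul_inv_eq_iff_eq_mul.1 hconj).symm⟩
    haveI := h.finite (i := r) (j := a) (by omega)
    haveI : Finite M := Finite.of_injective _ (Subgroup.inclusion_injective (hM ▸ inf_le_left : M ≤ seg x r a))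
    have hMle : M ≤ seg x r a := hM ▸ inf_le_left
    have hMeq : M = seg x r a := by
      refine Subgroup.eq_of_le_of_card_ge hMle ?_
      obtain ⟨e, he, hce⟩ := (Nat.dvd_prime_pow hp.out).1
        (h.card' (i := (r : ℤ)) (j := a) (by omega) (by omega) ▸ Subgroup.card_dvd_of_le hMle)
      rw [h.card' (by omega) (by omega), hce]
      refine Nat.pow_le_pow_right hp.out.pos ?_
      by_contra hlt
      refine hnot ?_
      rw [Subgroup.eq_of_le_of_card_ge hrest (by
        rw [hce, h.card' (by omega) (by omega)]; exact Nat.pow_le_pow_right hp.out.pos (by omega))]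
      exact hcM
    have : x (r : ℤ) ∈ M := hMeq.ge (mem_seg le_rfl (by omega))
    rw [hM] at this
    refine hne ?_
    have h1 : Commute (x (r : ℤ)) (x (r + a)) := mem_centralizer_singleton_iff.1 this.2
    have := h.shift _ _ (-(r : ℤ)) h1
    rwa [add_neg_cancel, show (r : ℤ) + a + -(r : ℤ) = a by ring] at this
  have up : ∀ r : ℕ, 1 ≤ r → r ≤ max 1 (t - a) → c ∈ seg x r a := by
    intro r hr
    induction r, hr using Nat.le_induction with
    | base => intro _; exact_mod_cast hc1
    | succ r hr ih =>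
      intro hle
      have hcr := ih (by omega)
      rcases lt_or_ge r a with hra | hra
      · exact_mod_cast key r hr (by omega) hra hcr
      · rw [seg, Set.Ico_eq_empty (by omega), Set.image_empty, Subgroup.closure_empty, Subgroup.mem_bot] at hcr
        exact absurd hcr hcne
  have := up (max 1 (t - a)) (le_max_left _ _) le_rfl
  rwa [Nat.cast_max, Nat.cast_one, Nat.cast_sub hat.le] at this

/-- Glauberman's inequality. -/
theorem IsChain.two_mul_le (h : IsChain p t x) {a : ℕ} (ha : 1 ≤ a) (hat : a < t)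
    (hcomm : ∀ i j : ℤ, i ≤ j → j < i + a → Commute (x i) (x j)) (hne : ¬ Commute (x 0) (x a)) :
    2 * t ≤ 3 * a := by
  by_contra hlt
  have h1 := h.commutator_high ha hat hcomm hne
  have h2 := (h.reflect a).commutator_high ha hat
    (fun i j hij hj => (hcomm (a - j) (a - i) (by omega) (by omega)).symm)
    (fun hc => hne (by simpa using hc.symm))
  rw [seg_reflect] at h2
  simp only [sub_zero, sub_self] at h2
  have h3 : x 0 * x a * (x 0)⁻¹ * (x a)⁻¹ ∈ seg x 1 ((t : ℤ) - a) := by
    have := inv_mem (seg_mono (i' := 1) (j' := (t : ℤ) - a) (by omega) (by omega) h2)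
    simpa [mul_inv_rev, mul_assoc] using this
  have h4 : x 0 * x a * (x 0)⁻¹ * (x a)⁻¹ ∈ seg x ((t : ℤ) - a) a :=
    seg_mono (le_max_right _ _) le_rfl h1
  rcases le_or_gt ((t : ℤ) - a) a with hle | hgt
  · have hd := h.disjoint (i := 1) (l := (t : ℤ) - a) (j := a) (by omega) hle (by omega)
      fun m n h1 h2 h3 h4 => hcomm m n (by omega) (by omega)
    have : x 0 * x a * (x 0)⁻¹ * (x a)⁻¹ = 1 := Subgroup.mem_bot.1 (hd.le ⟨h3, h4⟩)
    rw [mul_inv_eq_one, mul_inv_eq_iff_eq_mul] at this
    exact hne this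
  · rw [seg, Set.Ico_eq_empty (by omega), Set.image_empty, Subgroup.closure_empty, Subgroup.mem_bot,
      mul_inv_eq_one, mul_inv_eq_iff_eq_mul] at h4
    exact hne h4

end CfsgLib.PGroup.IndexChain
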