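/-
A subgroup with a conjugate meeting it in a normal subgroup of index `p`: the chain and the order bound.
-/
import Cfsg.Agent.Lib.PGroup.IndexChain.Chain
import Mathlib.Algebra.Group.Subgroup.Pointwise

set_option autoImplicit false

namespace CfsgLib.PGroup.IndexChain

open Subgroup
open scoped Pointwise

variable {G : Type*} [Group G] [Finite G]

theorem card_smul (σ : MulAut G) (H : Subgroup G) : Nat.card ↥(σ • H) = Nat.card H :=
  (Nat.card_congr (Subgroup.equivSMul σ H).toEquiv).symm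

theorem smul_mono (σ : MulAut G) {H K : Subgroup G} (h : H ≤ K) : σ • H ≤ σ • K :=
  Subgroup.pointwise_smul_le_pointwise_smul_iff.2 h

/-- The descending intersections. -/
def desc (σ : MulAut G) (P : Subgroup G) : ℕ → Subgroup G
  | 0 => P
  | k + 1 => P ⊓ σ • desc σ P k

theorem seg_map (σ : MulAut G) (e : G) (i j d : ℤ) :
    σ ^ d • seg (fun l => (σ ^ l) e) i j = seg (fun l => (σ ^ l) e) (i + d) (j + d) := by
  rw [seg, seg, Subgroup.smul_closure]
  congr 1
  ext y
  simp only [Set.mem_smul_set, Set.mem_image, Set.mem_Ico, MulAut.smul_def]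
  constructor
  · rintro ⟨_, ⟨l, hl, rfl⟩, rfl⟩
    exact ⟨l + d, ⟨by omega, by omega⟩, by rw [← MulAut.mul_apply, ← zpow_add, add_comm]⟩
  · rintro ⟨l, hl, rfl⟩
    exact ⟨_, ⟨l - d, ⟨by omega, by omega⟩, rfl⟩, by rw [← MulAut.mul_apply, ← zpow_add]; congr 2; ring⟩

/-- The data of the chain. -/
theorem exists_chain (σ : MulAut G) (P : Subgroup G) {p : ℕ} [hp : Fact p.Prime]
    (hN : ((P ⊓ σ • P).subgroupOf (σ • P)).Normal) (hidx : (P ⊓ σ • P).relIndex (σ • P) = p)
    (h1 : ∀ Q : Subgroup G, Q ≤ P → (Q.subgroupOf P).Normal → σ • Q = Q → Q = ⊥) :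
    ∃ (t : ℕ) (e : G), 1 ≤ t ∧ Nat.card P = p ^ t ∧ e ≠ 1 ∧ IsChain p t (fun l => (σ ^ l) e) ∧
      seg (fun l => (σ ^ l) e) (1 - t) 1 = P := by
  classical
  obtain ⟨D, hD⟩ : ∃ D, D = desc σ P := ⟨_, rfl⟩
  have hDs : ∀ k, D (k + 1) = P ⊓ σ • D k := fun k => by rw [hD]; rfl
  have hD0 : D 0 = P := by rw [hD]; rfl
  have hmono : ∀ k, D (k + 1) ≤ D k := by
    intro k
    induction k with
    | zero => rw [hDs, hD0]; exact inf_le_left
    | succ k ih => rw [hDs (k + 1), hDs k]; exact inf_le_inf_left _ (smul_mono σ (hDs k ▸ ih))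
  have hleP : ∀ k, D k ≤ P := by
    intro k
    induction k with
    | zero => exact hD0.le
    | succ k ih => exact (hmono k).trans ih
  have hsub : ∀ k, D (k + 1) ≤ σ • D k := fun k => hDs k ▸ inf_le_right
  have hrel : ∀ k, (D (k + 1)).relIndex (σ • D k) ∣ p ∧ ((D (k + 1)).subgroupOf (σ • D k)).Normal := by
    intro k
    have hle : σ • D k ≤ σ • P := smul_mono σ (hleP k)
    have e : (D (k + 1)).subgroupOf (σ • D k) = (P ⊓ σ • P).subgroupOf (σ • D k) := by
      ext y
      simp only [mem_subgroupOf, hDs, Subgroup.mem_inf]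
      exact and_congr_right' ⟨fun h => hle h, fun _ => y.2⟩
    haveI := hN
    refine ⟨?_, ?_⟩
    · show ((D (k + 1)).subgroupOf (σ • D k)).index ∣ p
      rw [e]
      show (P ⊓ σ • P).relIndex (σ • D k) ∣ p
      rw [← hidx, ← relIndex_subgroupOf hle]
      exact relIndex_dvd_index_of_normal _ _
    · rw [e]
      exact ⟨fun a ha c => hN.conj_mem ⟨(a : G), hle a.2⟩ ha ⟨(c : G), hle c.2⟩⟩
  have hcard : ∀ k, Nat.card (D k) = Nat.card (D (k + 1)) ∨ Nat.card (D k) = p * Nat.card (D (k + 1)) := by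
    intro k
    have h := Subgroup.index_mul_card ((D (k + 1)).subgroupOf (σ • D k))
    rw [Nat.card_congr (subgroupOfEquivOfLe (hsub k)).toEquiv, card_smul] at h
    rcases (Nat.dvd_prime hp.out).1 (hrel k).1 with h' | h' <;> rw [relIndex] at h'
    · exact Or.inl (by rw [← h, h', one_mul])
    · exact Or.inr (by rw [← h, h'])
  have hex : ∃ s, Nat.card (D s) = Nat.card (D (s + 1)) := by
    by_contra hc
    push Not at hc
    have : ∀ k, Nat.card (D k) + k ≤ Nat.card (D 0) := by
      intro k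
      induction k with
      | zero => simp
      | succ k ih =>
        have h2 := Subgroup.card_le_of_le (hmono k)
        have := hc k
        omega
    have := this (Nat.card (D 0) + 1)
    omega
  obtain ⟨s, hs, hmin⟩ : ∃ s, Nat.card (D s) = Nat.card (D (s + 1)) ∧
      ∀ k < s, Nat.card (D k) = p * Nat.card (D (k + 1)) :=
    ⟨Nat.find hex, Nat.find_spec hex, fun k hk => (hcard k).resolve_left (Nat.find_min hex hk)⟩
  have hsσ : σ • D s = D s := by
    have e1 : D (s + 1) = D s := Subgroup.eq_of_le_of_card_ge (hmono s) hs.le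
    exact ((Subgroup.eq_of_le_of_card_ge (hsub s) (by rw [card_smul, hs])).symm.trans e1)
  have hfixed : ∀ k, σ • D k = D k → Nat.card (D k) = Nat.card (D (k + 1)) := fun k h => by
    rw [hDs, h, inf_eq_right.2 (hleP k)]
  have hnofix : ∀ k, k < s → σ • D k ≠ D k := fun k hk e => by
    have h1 := hmin k hk
    rw [← hfixed k e] at h1
    have := hp.out.one_lt
    have hpos := Nat.card_pos (α := D k)
    nlinarith
  have hs1 : 1 ≤ s := by
    by_contra hc
    obtain rfl : s = 0 := by omega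
    rw [hD0] at hsσ
    rw [hsσ, inf_idem, relIndex_self] at hidx
    exact hp.out.ne_one hidx.symm
  have hgen : ∀ k, k + 1 < s → σ • D k = D (k + 1) ⊔ σ • D (k + 1) := by
    intro k hk
    refine (Subgroup.eq_of_le_of_card_ge (sup_le (hsub k) (smul_mono σ (hmono k))) ?_).symm
    have hlt : Nat.card (D (k + 1)) < Nat.card ↥(D (k + 1) ⊔ σ • D (k + 1)) := by
      refine lt_of_le_of_ne (Subgroup.card_le_of_le le_sup_left) fun e => hnofix _ hk ?_
      have := Subgroup.eq_of_le_of_card_ge (le_sup_left : D (k + 1) ≤ D (k + 1) ⊔ σ • D (k + 1)) e.ge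
      exact Subgroup.eq_of_le_of_card_ge (le_sup_right.trans this.ge) (card_smul σ _).ge
    obtain ⟨c, hc⟩ := Subgroup.card_dvd_of_le (le_sup_left : D (k + 1) ≤ D (k + 1) ⊔ σ • D (k + 1))
    have hd := Subgroup.card_dvd_of_le (sup_le (hsub k) (smul_mono σ (hmono k)))
    rw [card_smul, hmin k (by omega)] at hd ⊢
    rw [hc] at hlt hd ⊢
    have hcp : c ∣ p := by
      rw [mul_comm p] at hd
      exact Nat.dvd_of_mul_dvd_mul_left Nat.card_pos hd
    rcases (Nat.dvd_prime hp.out).1 hcp with rfl | rfl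
    · omega
    · rw [mul_comm]
  have hsigma : ∀ H : Subgroup G, σ • D s = D s → σ • H ≤ normalizer (D s : Set G) → H ≤ normalizer (D s : Set G) := by
    intro H hfix hH x hx
    have h1 := hH (Subgroup.smul_mem_pointwise_smul x σ H hx)
    rw [mem_normalizer_iff] at h1 ⊢
    intro y
    rw [← Subgroup.smul_mem_pointwise_smul_iff (a := σ) (S := D s) (x := y),
      ← Subgroup.smul_mem_pointwise_smul_iff (a := σ) (S := D s) (x := x * y * x⁻¹), hfix, h1 (σ • y)]
    simp [MulAut.smul_def]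
  have hnorm : ∀ j k, k + j + 1 = s → D k ≤ normalizer (D s : Set G) := by
    intro j
    induction j with
    | zero =>
      intro k hk
      have hk' : s = k + 1 := by omega
      subst hk'
      refine hsigma _ hsσ fun x hx => mem_normalizer_iff.2 fun y => ?_
      have hn := (hrel k).2
      constructor
      · intro hy
        exact hn.conj_mem ⟨y, hsub k hy⟩ hy ⟨x, hx⟩
      · intro hy
        have := hn.conj_mem ⟨x * y * x⁻¹, hsub k hy⟩ hy ⟨x⁻¹, inv_mem hx⟩
        simpa [mem_subgroupOf, mul_assoc] using this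
    | succ j ih =>
      intro k hk
      refine hsigma _ hsσ ?_
      have hk1 := ih (k + 1) (by omega)
      rw [hgen k (by omega)]
      refine sup_le hk1 ?_
      intro x hx
      obtain ⟨y, hy, rfl⟩ := Subgroup.mem_smul_pointwise_iff_exists _ _ _ |>.1 hx
      have h := hk1 hy
      rw [mem_normalizer_iff] at h ⊢
      intro z
      obtain ⟨w, rfl⟩ : ∃ w, σ • w = z := ⟨σ⁻¹ • z, smul_inv_smul σ z⟩
      rw [show σ • y * σ • w * (σ • y)⁻¹ = σ • (y * w * y⁻¹) by simp [MulAut.smul_def]]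
      conv_lhs => rw [← hsσ]
      conv_rhs => rw [← hsσ]
      rw [Subgroup.smul_mem_pointwise_smul_iff, Subgroup.smul_mem_pointwise_smul_iff, h w]
  have hbot : D s = ⊥ := by
    refine h1 _ (hleP s) ?_ hsσ
    have hP : P ≤ normalizer (D s : Set G) := hD0 ▸ hnorm (s - 1) 0 (by omega)
    exact ⟨fun a ha c => (mem_normalizer_iff.1 (hP c.2) a).1 ha⟩
  have hDcard : ∀ j k, k + j = s → Nat.card (D k) = p ^ j := by
    intro j
    induction j with
    | zero => intro k hk; rw [show k = s by omega, hbot, Subgroup.card_bot, pow_zero]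
    | succ j ih => intro k hk; rw [hmin k (by omega), ih (k + 1) (by omega), pow_succ']
  -- a generator of the last nontrivial term
  have hE : Nat.card (D (s - 1)) = p := by rw [hDcard 1 (s - 1) (by omega), pow_one]
  haveI : Nontrivial (D (s - 1)) := Finite.one_lt_card_iff_nontrivial.1 (hE ▸ hp.out.one_lt)
  obtain ⟨⟨e, he⟩, hne⟩ := exists_ne (1 : D (s - 1))
  have he1 : e ≠ 1 := fun h => hne (Subtype.ext h)
  have hEz : D (s - 1) = zpowers e := by
    refine (Subgroup.eq_of_le_of_card_ge (zpowers_le.2 he) ?_).symm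
    rw [hE]
    rcases (Nat.dvd_prime hp.out).1 (hE ▸ Subgroup.card_dvd_of_le (zpowers_le.2 he)) with h | h
    · exact absurd (Subgroup.card_eq_one.1 h) (fun h' => he1 (zpowers_eq_bot.1 h'))
    · exact h.ge
  have hseg : ∀ j k, k + j + 1 = s → seg (fun l => (σ ^ l) e) (-(j : ℤ)) 1 = D k := by
    intro j
    induction j with
    | zero =>
      intro k hk
      rw [show k = s - 1 by omega, hEz, seg, show Set.Ico (-((0 : ℕ) : ℤ)) 1 = {0} by ext; simp; omega,
        Set.image_singleton, ← zpowers_eq_closure]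
      simp
    | succ j ih =>
      intro k hk
      have hk1 := ih (k + 1) (by omega)
      have hσ : σ • seg (fun l => (σ ^ l) e) (-((j + 1 : ℕ) : ℤ)) 1 = σ • D k := by
        rw [hgen k (by omega), ← hk1]
        have hone : ∀ i j : ℤ, σ • seg (fun l => (σ ^ l) e) i j = seg (fun l => (σ ^ l) e) (i + 1) (j + 1) :=
          fun i j => by simpa using seg_map σ e i j 1
        rw [hone, hone]
        refine le_antisymm (seg_le_iff.2 fun l h1 h2 => ?_) (sup_le (seg_mono (by omega) (by omega)) (seg_mono (by omega) (by omega)))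
        rcases lt_or_ge l 1 with h | h
        · exact mem_sup_left (mem_seg (by omega) h)
        · exact mem_sup_right (mem_seg (by omega) (by omega))
      exact smul_left_cancel σ hσ
  refine ⟨s, e, hs1, by rw [← hD0, hDcard s 0 (by omega)], he1, ⟨fun i k hk => ?_, fun i j d h => ?_⟩, ?_⟩
  · rcases Nat.eq_zero_or_pos k with rfl | hk0
    · rw [seg, Set.Ico_eq_empty (by simp), Set.image_empty, Subgroup.closure_empty, Subgroup.card_bot, pow_zero]
    · have h := hseg (k - 1) (s - k) (by omega)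
      rw [show (-((k - 1 : ℕ) : ℤ)) = 1 - (k : ℤ) by omega] at h
      have h' := seg_map σ e (1 - (k : ℤ)) 1 (i + k - 1)
      rw [show (1 : ℤ) - k + (i + k - 1) = i by ring, show (1 : ℤ) + (i + k - 1) = i + k by ring] at h'
      rw [← h', card_smul, h, hDcard k (s - k) (by omega)]
  · have := h.map (σ ^ d).toMonoidHom
    simpa [← MulAut.mul_apply, ← zpow_add, add_comm] using this
  · have h := hseg (s - 1) 0 (by omega)
    rw [show (-((s - 1 : ℕ) : ℤ)) = 1 - (s : ℤ) by omega] at h
    rw [h, hD0]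

/-- The order bound. -/
theorem order_bound (σ : MulAut G) (P : Subgroup G) {p : ℕ} [Fact p.Prime]
    (hN : ((P ⊓ σ • P).subgroupOf (σ • P)).Normal) (hidx : (P ⊓ σ • P).relIndex (σ • P) = p)
    (h1 : ∀ Q : Subgroup G, Q ≤ P → (Q.subgroupOf P).Normal → σ • Q = Q → Q = ⊥)
    (n : ℕ) (hn : 1 ≤ n) (K : Subgroup G) (hK : ∀ i ≤ n, σ ^ i • P ≤ K)
    (hK' : ∀ H : Subgroup G, (∀ i ≤ n, σ ^ i • P ≤ H) → K ≤ H)
    (h2 : P ⊓ (center K).map K.subtype = ⊥) : ∃ t : ℕ, Nat.card P = p ^ t ∧ 1 ≤ t ∧ t ≤ 3 * n ∧ t ≠ 3 * n - 1 := by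
  classical
  obtain ⟨t, e, ht, hcard, he, hchain, hP⟩ := exists_chain σ P hN hidx h1
  refine ⟨t, hcard, ht, ?_⟩
  obtain ⟨x, hx⟩ : ∃ x : ℤ → G, x = fun l => (σ ^ l) e := ⟨_, rfl⟩
  rw [← hx] at hchain hP
  obtain ⟨a, ha1, hat, hcomm, hne⟩ : ∃ a, 1 ≤ a ∧ a ≤ t ∧
      (∀ i j : ℤ, i ≤ j → j < i + a → Commute (x i) (x j)) ∧ (a < t → ¬ Commute (x 0) (x a)) := by
    have hex : ∃ a, t ≤ a ∨ ¬ Commute (x 0) (x a) := ⟨t, Or.inl le_rfl⟩
    refine ⟨Nat.find hex, ?_, Nat.find_le (Or.inl le_rfl), fun i j hij hj => ?_,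
      fun h => (Nat.find_spec hex).resolve_left (by omega)⟩
    · by_contra hc
      rcases Nat.find_spec hex with h | h
      · omega
      · rw [show Nat.find hex = 0 by omega] at h
        exact h (by simp)
    · obtain ⟨d, rfl⟩ : ∃ d : ℕ, j = i + d := ⟨(j - i).toNat, by omega⟩
      have h := Nat.find_min hex (m := d) (by omega)
      rw [not_or, not_not] at h
      have := hchain.shift 0 (d : ℤ) i h.2
      rwa [zero_add, add_comm] at this
  have hbound : 2 * a ≤ t + n := by
    by_contra hc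
    have hl : x ((a : ℤ) - t) ∈ P := hP ▸ mem_seg (by omega) (by omega)
    have hKle : K ≤ seg x (1 - t) (n + 1) := hK' _ fun i hi => by
      rw [← hP, hx, ← zpow_natCast, seg_map]
      exact seg_mono (by omega) (by omega)
    have hlK : x ((a : ℤ) - t) ∈ K := hK 0 (Nat.zero_le _) (by rwa [pow_zero, one_smul])
    have hcen : K ≤ centralizer {x ((a : ℤ) - t)} := hKle.trans (seg_le_iff.2 fun l h1 h2 => by
      refine mem_centralizer_singleton_iff.2 ?_
      rcases le_total ((a : ℤ) - t) l with h | h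
      · exact (hcomm _ _ h (by omega)).symm.eq
      · exact (hcomm _ _ h (by omega)).eq)
    have : x ((a : ℤ) - t) ∈ P ⊓ (center K).map K.subtype :=
      ⟨hl, ⟨x ((a : ℤ) - t), hlK⟩, mem_center_iff.2 fun k => Subtype.ext (mem_centralizer_singleton_iff.1 (hcen k.2)), rfl⟩
    rw [h2, Subgroup.mem_bot, hx] at this
    exact he ((σ ^ ((a : ℤ) - t)).map_eq_one_iff.1 this)
  rcases hat.eq_or_lt with h | h
  · omega
  · have := hchain.two_mul_le ha1 h hcomm (hne h)
    omega

end CfsgLib.PGroup.IndexChain
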